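import Cfsg.Agent.Fi23Mult.E8.Defs

/-! Generated: kernel checks. -/

set_option Elab.async false

namespace Cfsg.Agent.Fi23Mult.E8

open Cfsg.Agent.CosetCert

theorem rels_okAt20000 : allFrom data.checkRels 20000 500 = true := by decide +kernel

theorem rels_okAt20500 : allFrom data.checkRels 20500 500 = true := by decide +kernel

theorem rels_okAt21000 : allFrom data.checkRels 21000 500 = true := by decide +kernel

theorem rels_okAt21500 : allFrom data.checkRels 21500 500 = true := by decide +kernel

theorem rels_okAt22000 : allFrom data.checkRels 22000 500 = true := by decide +kernel

theorem rels_okAt22500 : allFrom data.checkRels 22500 500 = true := by decide +kernel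

theorem rels_okAt23000 : allFrom data.checkRels 23000 500 = true := by decide +kernel

theorem rels_okAt23500 : allFrom data.checkRels 23500 500 = true := by decide +kernel

theorem rels_okAt24000 : allFrom data.checkRels 24000 500 = true := by decide +kernel

theorem rels_okAt24500 : allFrom data.checkRels 24500 500 = true := by decide +kernel

end Cfsg.Agent.Fi23Mult.E8
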