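import Cfsg.Agent.Fi23Mult.E8.Defs

/-! Generated: kernel checks. -/

set_option Elab.async false

namespace Cfsg.Agent.Fi23Mult.E8

open Cfsg.Agent.CosetCert

theorem rels_okAt25000 : allFrom data.checkRels 25000 500 = true := by decide +kernel

theorem rels_okAt25500 : allFrom data.checkRels 25500 500 = true := by decide +kernel

theorem rels_okAt26000 : allFrom data.checkRels 26000 500 = true := by decide +kernel

theorem rels_okAt26500 : allFrom data.checkRels 26500 500 = true := by decide +kernel

theorem rels_okAt27000 : allFrom data.checkRels 27000 500 = true := by decide +kernel

theorem rels_okAt27500 : allFrom data.checkRels 27500 500 = true := by decide +kernel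

theorem rels_okAt28000 : allFrom data.checkRels 28000 431 = true := by decide +kernel

end Cfsg.Agent.Fi23Mult.E8
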